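import Groth.Agent.TransLib.Step
import Groth.Agent.FlatLib.FlatMisc
import Groth.Agent.DepthBasicLib.Ext
import Groth.Agent.S4718
import Groth.Agent.S5752
import Mathlib

/-! # Depth of the tensor product with a flat module -/

set_option autoImplicit false
universe u
open IsLocalRing
open scoped TensorProduct Pointwise

namespace DepthTensModLib

theorem cancel1 {a : ℕ∞} {n : ℕ} (h : a + 1 = (n : ℕ∞) + 1) : a = n := by
  cases a with
  | top => rw [top_add] at h; exact absurd h.symm (by exact_mod_cast ENat.coe_ne_top (n + 1))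
  | coe a => exact_mod_cast (by have h' : a + 1 = n + 1 := (by exact_mod_cast h); omega : a = n)

set_option maxHeartbeats 800000
set_option synthInstance.maxHeartbeats 100000

section
variable {A B : Type u} [CommRing A] [CommRing B] [Algebra A B]
variable (N : Type u) [AddCommGroup N] [Module B N] [Module A N] [IsScalarTower A B N]
variable (M : Type u) [AddCommGroup M] [Module A M]

/-- quotient of the tensor by an element of the base -/
noncomputable def quotBaseEquiv (x : A) :
    N ⊗[A] QuotSMulTop x M ≃ₗ[B] QuotSMulTop (algebraMap A B x) (N ⊗[A] M) := by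
  let g : N ⊗[A] M →ₗ[B] N ⊗[A] QuotSMulTop x M :=
    TensorProduct.AlgebraTensorModule.map LinearMap.id (Submodule.mkQ _)
  have hg : Function.Surjective g := LinearMap.lTensor_surjective N (Submodule.mkQ_surjective _)
  have hker : LinearMap.ker g = algebraMap A B x • (⊤ : Submodule B (N ⊗[A] M)) := by
    refine le_antisymm (fun z hz => ?_) fun z hz => ?_
    · have hex : Function.Exact ((LinearMap.lsmul A M x).lTensor N) ((Submodule.mkQ (x • (⊤ : Submodule A M))).lTensor N) := by
        refine lTensor_exact N (fun m => ?_) (Submodule.mkQ_surjective _)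
        rw [Submodule.mkQ_apply, Submodule.Quotient.mk_eq_zero, Submodule.mem_smul_pointwise_iff_exists]
        exact ⟨fun ⟨w, _, hw⟩ => ⟨w, hw⟩, fun ⟨w, hw⟩ => ⟨w, trivial, hw⟩⟩
      obtain ⟨w, hw⟩ := (hex z).1 hz
      rw [← hw]
      clear hw hz hex
      induction w using TensorProduct.induction_on with
      | zero => rw [map_zero]; exact zero_mem _
      | add a b ha hb => rw [map_add]; exact add_mem ha hb
      | tmul n m =>
        refine (Submodule.mem_smul_pointwise_iff_exists _ _ _).2 ⟨n ⊗ₜ[A] m, trivial, ?_⟩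
        rw [algebraMap_smul, LinearMap.lTensor_tmul, LinearMap.lsmul_apply, TensorProduct.tmul_smul]
    · obtain ⟨w, -, rfl⟩ := (Submodule.mem_smul_pointwise_iff_exists _ _ _).1 hz
      rw [LinearMap.mem_ker, map_smul, algebraMap_smul]
      induction g w using TensorProduct.induction_on with
      | zero => rw [smul_zero]
      | add a b ha hb => rw [smul_add, ha, hb, add_zero]
      | tmul n m =>
        obtain ⟨m, rfl⟩ := Submodule.Quotient.mk_surjective _ m
        rw [← TensorProduct.tmul_smul, ← Submodule.Quotient.mk_smul, (Submodule.Quotient.mk_eq_zero _).2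
          (Submodule.smul_mem_pointwise_smul m x ⊤ trivial), TensorProduct.tmul_zero]
  exact (g.quotKerEquivOfSurjective hg).symm.trans (Submodule.quotEquivOfEq _ _ hker)

theorem isSMulRegular_tensor_base [Module.Flat A N] {x : A} (hx : IsSMulRegular M x) :
    IsSMulRegular (N ⊗[A] M) (algebraMap A B x) := by
  intro a b hab
  simp only [algebraMap_smul] at hab
  refine Module.Flat.lTensor_preserves_injective_linearMap (M := N) (LinearMap.lsmul A M x) hx ?_
  have h : ∀ z : N ⊗[A] M, (LinearMap.lsmul A M x).lTensor N z = x • z := fun z => by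
    induction z using TensorProduct.induction_on with
    | zero => simp
    | add a b ha hb => simp [ha, hb]
    | tmul n m => simp [TensorProduct.tmul_smul]
  rw [h, h]
  exact hab

theorem isSMulRegular_tensor_top {y : B} (hy : IsSMulRegular N y) (hflat : Module.Flat A (QuotSMulTop y N)) :
    IsSMulRegular (N ⊗[A] M) y := by
  intro a b hab
  let f : N →ₗ[A] N := (LinearMap.lsmul B N y).restrictScalars A
  let g : N →ₗ[A] QuotSMulTop y N := (Submodule.mkQ _).restrictScalars A
  have hex : Function.Exact f g := fun n => by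
    show Submodule.mkQ (y • (⊤ : Submodule B N)) n = 0 ↔ _
    rw [Submodule.mkQ_apply, Submodule.Quotient.mk_eq_zero, Submodule.mem_smul_pointwise_iff_exists]
    exact ⟨fun ⟨w, _, hw⟩ => ⟨w, hw⟩, fun ⟨w, hw⟩ => ⟨w, trivial, hw⟩⟩
  refine FlatLib.lTensor_injective_of_flat_coker f g hy hex (Submodule.mkQ_surjective _) M ?_
  have h : ∀ z : N ⊗[A] M, f.rTensor M z = y • z := fun z => by
    induction z using TensorProduct.induction_on with
    | zero => simp
    | add a b ha hb => simp [ha, hb]
    | tmul n m => simp [f, TensorProduct.smul_tmul']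
  rw [h, h]
  exact hab

/-- quotient of the tensor by an element upstairs -/
noncomputable def quotTopEquiv' (y : B) (N' : Type u) [AddCommGroup N'] [Module B N'] [Module A N']
    [IsScalarTower A B N'] (q : N →ₗ[B] N') (hq : Function.Surjective q)
    (hex : Function.Exact (LinearMap.lsmul B N y) q) :
    N' ⊗[A] M ≃ₗ[B] QuotSMulTop y (N ⊗[A] M) := by
  let g : N ⊗[A] M →ₗ[B] N' ⊗[A] M :=
    TensorProduct.AlgebraTensorModule.map (R := A) (A := B) q (LinearMap.id : M →ₗ[A] M)
  have hg : Function.Surjective g := LinearMap.rTensor_surjective M (g := q.restrictScalars A) hq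
  have hker : LinearMap.ker g = y • (⊤ : Submodule B (N ⊗[A] M)) := by
    refine le_antisymm (fun z hz => ?_) fun z hz => ?_
    · have hex' : Function.Exact (((LinearMap.lsmul B N y).restrictScalars A).rTensor M)
          ((q.restrictScalars A).rTensor M) := rTensor_exact M hex hq
      obtain ⟨w, hw⟩ := (hex' z).1 hz
      rw [← hw]
      clear hw hz hex'
      induction w using TensorProduct.induction_on with
      | zero => rw [map_zero]; exact zero_mem _
      | add a b ha hb => rw [map_add]; exact add_mem ha hb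
      | tmul n m =>
        refine (Submodule.mem_smul_pointwise_iff_exists _ _ _).2 ⟨n ⊗ₜ[A] m, trivial, ?_⟩
        rw [TensorProduct.smul_tmul']; rfl
    · obtain ⟨w, -, rfl⟩ := (Submodule.mem_smul_pointwise_iff_exists _ _ _).1 hz
      clear hz
      rw [LinearMap.mem_ker]
      induction w using TensorProduct.induction_on with
      | zero => rw [smul_zero, map_zero]
      | add a b ha hb => rw [smul_add, map_add, ha, hb, add_zero]
      | tmul n m =>
        rw [TensorProduct.smul_tmul']
        show q (y • n) ⊗ₜ[A] m = 0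
        rw [show q (y • n) = 0 from (hex (y • n)).2 ⟨n, rfl⟩, TensorProduct.zero_tmul]
  exact (g.quotKerEquivOfSurjective hg).symm.trans (Submodule.quotEquivOfEq _ _ hker)

theorem exact_lsmul_mkQ (y : B) :
    Function.Exact (LinearMap.lsmul B N y) (Submodule.mkQ (y • (⊤ : Submodule B N))) := fun n => by
  rw [Submodule.mkQ_apply, Submodule.Quotient.mk_eq_zero, Submodule.mem_smul_pointwise_iff_exists]
  exact ⟨fun ⟨w, _, hw⟩ => ⟨w, hw⟩, fun ⟨w, hw⟩ => ⟨w, trivial, hw⟩⟩

/-- quotient of the tensor by an element upstairs -/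
noncomputable def quotTopEquiv (y : B) :
    QuotSMulTop y N ⊗[A] M ≃ₗ[B] QuotSMulTop y (N ⊗[A] M) :=
  quotTopEquiv' N M y (QuotSMulTop y N) (Submodule.mkQ _) (Submodule.mkQ_surjective _) (exact_lsmul_mkQ N y)

theorem nontrivial_quotSMulTop {R : Type u} [CommRing R] [IsLocalRing R] {X : Type u} [AddCommGroup X] [Module R X]
    [Module.Finite R X] [Nontrivial X] {x : R} (hx : x ∈ maximalIdeal R) : Nontrivial (QuotSMulTop x X) := by
  refine Submodule.Quotient.nontrivial_iff.2 fun h => ?_
  refine top_ne_bot (α := Submodule R X) (Submodule.eq_bot_of_le_smul_of_le_jacobson_bot (Ideal.span {x}) ⊤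
    Module.Finite.fg_top ?_ (((Ideal.span_singleton_le_iff_mem _).2 hx).trans (maximalIdeal_le_jacobson _)))
  rw [Submodule.ideal_span_singleton_smul, h]

theorem depth_ne_top (R : Type u) [CommRing R] [IsNoetherianRing R] [IsLocalRing R] (X : Type u) [AddCommGroup X]
    [Module R X] [Module.Finite R X] [Nontrivial X] : LocCoh.depth R X ≠ ⊤ := by
  intro h
  have h1 := (Groth.Agent.S4718.depth_le_supportDim R X).trans (Module.supportDim_le_ringKrullDim R X)
  rw [h] at h1
  exact absurd (h1.trans_lt ringKrullDim_lt_top) (lt_irrefl _)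

end

section
variable {A B : Type u} [CommRing A] [CommRing B] [IsLocalRing A] [IsLocalRing B] [IsNoetherianRing A]
  [IsNoetherianRing B] [Algebra A B] [IsLocalHom (algebraMap A B)]

theorem finite_tensor (N : Type u) [AddCommGroup N] [Module B N] [Module A N] [IsScalarTower A B N] [Module.Finite B N]
    (M : Type u) [AddCommGroup M] [Module A M] [Module.Finite A M] : Module.Finite B (N ⊗[A] M) :=
  Module.Finite.equiv (TensorProduct.AlgebraTensorModule.cancelBaseChange A B B N M)

/-- fibre module -/
abbrev Fib (A : Type u) [CommRing A] [IsLocalRing A] {B : Type u} [CommRing B] [Algebra A B] (N : Type u)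
    [AddCommGroup N] [Module B N] : Type u :=
  N ⧸ ((maximalIdeal A).map (algebraMap A B) • (⊤ : Submodule B N))

theorem exists_isSMulRegular (R : Type u) [CommRing R] [IsNoetherianRing R] [IsLocalRing R] (X : Type u)
    [AddCommGroup X] [Module R X] [Module.Finite R X] {n : ℕ} (h : LocCoh.depth R X = (n + 1 : ℕ)) :
    ∃ x ∈ maximalIdeal R, IsSMulRegular X x := by
  have h1 : ((1 : ℕ) : ℕ∞) ≤ LocCoh.depth R X := by rw [h]; exact_mod_cast Nat.succ_pos n
  obtain ⟨rs, hl, hm, hr⟩ := (CommAlgDim.le_depth_iff 1).1 h1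
  obtain ⟨x, rfl⟩ := List.length_eq_one_iff.1 hl
  exact ⟨x, hm x List.mem_cons_self, (RingTheory.Sequence.isWeaklyRegular_singleton_iff _ _).1 hr⟩

theorem depth_quot (R : Type u) [CommRing R] [IsNoetherianRing R] [IsLocalRing R] (X : Type u)
    [AddCommGroup X] [Module R X] [Module.Finite R X] (x : R) (hx : x ∈ maximalIdeal R) (hr : IsSMulRegular X x) :
    LocCoh.depth R (QuotSMulTop x X) + 1 = LocCoh.depth R X :=
  DepthBasic.idealDepth_quot_add_one (maximalIdeal R) X x hx hr

theorem depth_congr (R : Type u) [CommRing R] [IsLocalRing R] {X Y : Type u} [AddCommGroup X]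
    [Module R X] [AddCommGroup Y] [Module R Y] [IsNoetherianRing R] [Module.Finite R X] [Module.Finite R Y]
    (e : X ≃ₗ[R] Y) : LocCoh.depth R X = LocCoh.depth R Y := by
  refine ENat.eq_of_forall_natCast_le_iff fun n => ?_
  rw [CommAlgDim.le_depth_iff, CommAlgDim.le_depth_iff]
  exact ⟨fun h => h.congr e, fun h => h.congr e.symm⟩

theorem depth_zero (N : Type u) [AddCommGroup N] [Module B N] [Module A N] [IsScalarTower A B N]
    [Module.Finite B N] [Module.Flat A N] (M : Type u) [AddCommGroup M] [Module A M] [Module.Finite A M]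
    (ha : LocCoh.depth A M = 0) (hb : LocCoh.depth B (Fib A (B := B) N) = 0) :
    LocCoh.depth B (N ⊗[A] M) = 0 := by
  haveI := finite_tensor (A := A) (B := B) N M
  rw [Groth.Agent.S5752.result A M] at ha
  rw [Groth.Agent.S5752.result B (Fib A (B := B) N)] at hb
  rw [Groth.Agent.S5752.result B (N ⊗[A] M)]
  obtain ⟨-, m, hm⟩ := isAssociatedPrime_iff.1 ha
  have hmk : ∀ r, r ∈ maximalIdeal A ↔ r • m = 0 := fun r => by
    rw [hm, Submodule.mem_colon_singleton]; simp
  obtain ⟨-, z0, hz⟩ := isAssociatedPrime_iff.1 hb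
  obtain ⟨z, rfl⟩ := Submodule.Quotient.mk_surjective _ z0
  have hzk : ∀ r, r ∈ maximalIdeal B ↔
      r • z ∈ (maximalIdeal A).map (algebraMap A B) • (⊤ : Submodule B N) := fun r => by
    rw [hz, Submodule.mem_colon_singleton, Submodule.mem_bot, ← Submodule.Quotient.mk_smul, Submodule.Quotient.mk_eq_zero]
  have hkill : ∀ v : N, v ∈ (maximalIdeal A).map (algebraMap A B) • (⊤ : Submodule B N) → v ⊗ₜ[A] m = 0 := by
    intro v hv
    have hv' : v ∈ maximalIdeal A • (⊤ : Submodule A N) := by
      rw [← TransLib.map_smul_top_restrictScalars (B := B)]; exact hv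
    refine Submodule.smul_induction_on hv' (fun a ha n _ => ?_) (fun u w hu hw => ?_)
    · rw [TensorProduct.smul_tmul, (hmk a).1 ha, TensorProduct.tmul_zero]
    · rw [TensorProduct.add_tmul, hu, hw, add_zero]
  have hne : z ⊗ₜ[A] m ≠ 0 := by
    intro h0
    let i : A ⧸ maximalIdeal A →ₗ[A] M :=
      Submodule.liftQ _ (LinearMap.toSpanSingleton A M m) fun r hr => LinearMap.mem_ker.2 ((hmk r).1 hr)
    have hi : Function.Injective i := by
      rw [← LinearMap.ker_eq_bot]
      exact Submodule.ker_liftQ_eq_bot _ _ _ fun r hr => (hmk r).2 hr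
    have h1 : z ⊗ₜ[A] (Submodule.Quotient.mk (1 : A) : A ⧸ maximalIdeal A) = 0 := by
      refine Module.Flat.lTensor_preserves_injective_linearMap (M := N) i hi ?_
      rw [map_zero, LinearMap.lTensor_tmul]
      show z ⊗ₜ[A] ((LinearMap.toSpanSingleton A M m) 1) = 0
      rw [LinearMap.toSpanSingleton_apply, one_smul, h0]
    have h2 := congrArg (TensorProduct.tensorQuotEquivQuotSMul N (maximalIdeal A)) h1
    rw [map_zero] at h2
    have h3 : z ∈ maximalIdeal A • (⊤ : Submodule A N) := by
      rw [← Submodule.Quotient.mk_eq_zero, ← h2,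
        show (Submodule.Quotient.mk (1 : A) : A ⧸ maximalIdeal A) = Ideal.Quotient.mk (maximalIdeal A) 1 from rfl,
        TensorProduct.tensorQuotEquivQuotSMul_tmul_mk, one_smul]
    rw [← TransLib.map_smul_top_restrictScalars (B := B)] at h3
    exact (maximalIdeal.isMaximal B).ne_top ((Ideal.eq_top_iff_one _).2 ((hzk 1).2 (by rw [one_smul]; exact h3)))
  refine isAssociatedPrime_iff.2 ⟨inferInstance, z ⊗ₜ[A] m, Ideal.ext fun r => ?_⟩
  rw [Submodule.mem_colon_singleton, Submodule.mem_bot]
  refine ⟨fun hr => by rw [TensorProduct.smul_tmul']; exact hkill _ ((hzk r).1 hr), fun hr => ?_⟩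
  by_contra hu
  exact hne ((IsLocalRing.notMem_maximalIdeal.1 hu).smul_eq_zero.1 hr)

theorem depth_tensor_aux : ∀ (a b : ℕ) (N : Type u) [AddCommGroup N] [Module B N] [Module A N] [IsScalarTower A B N]
    [Module.Finite B N] [Nontrivial N] [Module.Flat A N] (M : Type u) [AddCommGroup M] [Module A M]
    [Module.Finite A M] [Nontrivial M], LocCoh.depth A M = a → LocCoh.depth B (Fib A (B := B) N) = b →
      LocCoh.depth B (N ⊗[A] M) = ((a + b : ℕ) : ℕ∞) := by
  intro a
  induction a with
  | zero =>
    intro b
    induction b with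
    | zero =>
      intro N _ _ _ _ _ _ _ M _ _ _ _ ha hb
      rw [Nat.add_zero, Nat.cast_zero]
      rw [Nat.cast_zero] at ha hb
      exact depth_zero N M ha hb
    | succ b ih =>
      intro N _ _ _ _ _ _ _ M _ _ _ _ ha hb
      haveI := finite_tensor (A := A) (B := B) N M
      obtain ⟨y, hy, hyr⟩ := exists_isSMulRegular B (Fib A (B := B) N) hb
      obtain ⟨hNr, hflat⟩ := TransLib.regular_and_flat_step N y hyr
      haveI := hflat
      haveI : Nontrivial (QuotSMulTop y N) := nontrivial_quotSMulTop hy
      have h1 := depth_quot B _ y hy hyr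
      rw [hb, depth_congr B (TransLib.quotSMulTopComm N ((maximalIdeal A).map (algebraMap A B)) y).symm, Nat.cast_succ] at h1
      replace h1 := cancel1 h1
      have h2 := ih (QuotSMulTop y N) M ha h1
      haveI := finite_tensor (A := A) (B := B) (QuotSMulTop y N) M
      rw [depth_congr B (quotTopEquiv N M y)] at h2
      rw [← depth_quot B _ y hy (isSMulRegular_tensor_top N M hNr hflat), h2]
      push_cast; ring
  | succ a ih =>
    intro b N _ _ _ _ _ _ _ M _ _ _ _ ha hb
    haveI := finite_tensor (A := A) (B := B) N M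
    obtain ⟨x, hx, hxr⟩ := exists_isSMulRegular A M ha
    haveI : Nontrivial (QuotSMulTop x M) := nontrivial_quotSMulTop hx
    have h1 := depth_quot A _ x hx hxr
    rw [ha, Nat.cast_succ] at h1
    replace h1 := cancel1 h1
    have h2 := ih b N (QuotSMulTop x M) h1 hb
    haveI := finite_tensor (A := A) (B := B) N (QuotSMulTop x M)
    rw [depth_congr B (quotBaseEquiv N M x)] at h2
    have hxB : algebraMap A B x ∈ maximalIdeal B := by
      show x ∈ (maximalIdeal B).comap (algebraMap A B)
      rw [IsLocalRing.maximalIdeal_comap]; exact hx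
    rw [← depth_quot B _ _ hxB (isSMulRegular_tensor_base N M hxr), h2]
    push_cast; ring

theorem depth_tensor (N : Type u) [AddCommGroup N] [Module B N] [Module A N] [IsScalarTower A B N]
    [Module.Finite B N] [Nontrivial N] [Module.Flat A N] (M : Type u) [AddCommGroup M] [Module A M]
    [Module.Finite A M] [Nontrivial M] :
    LocCoh.depth B (N ⊗[A] M) = LocCoh.depth A M + LocCoh.depth B (Fib A (B := B) N) := by
  haveI : Nontrivial (Fib A (B := B) N) := by
    refine Submodule.Quotient.nontrivial_iff.2 fun h => top_ne_bot (α := Submodule B N) ?_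
    exact Submodule.eq_bot_of_le_smul_of_le_jacobson_bot _ ⊤ Module.Finite.fg_top h.ge
      (le_trans (((local_hom_TFAE (algebraMap A B)).out 0 2).1 (by infer_instance)) (maximalIdeal_le_jacobson _))
  obtain ⟨a, ha⟩ := ENat.ne_top_iff_exists.1 (depth_ne_top A M)
  obtain ⟨b, hb⟩ := ENat.ne_top_iff_exists.1 (depth_ne_top B (Fib A (B := B) N))
  rw [depth_tensor_aux a b N M ha.symm hb.symm, ← ha, ← hb, Nat.cast_add]

end

end DepthTensModLib

namespace DepthTensModLib

theorem depth_eq_top (R : Type u) [CommRing R] [IsNoetherianRing R] [IsLocalRing R] (X : Type u) [AddCommGroup X]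
    [Module R X] [Subsingleton X] : LocCoh.depth R X = ⊤ :=
  haveI : Module.Finite R X := inferInstance
  ENat.eq_top_iff_forall_ge.2 fun n => (CommAlgDim.le_depth_iff n).2
    ⟨List.replicate n 0, List.length_replicate, fun r hr => by rw [List.eq_of_mem_replicate hr]; exact zero_mem _,
      by
        refine ⟨fun i hi => ?_⟩
        exact fun a b _ => Subsingleton.elim a b⟩

end DepthTensModLib
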